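import Mathlib.RingTheory.AdicCompletion.Exactness
import Mathlib.RingTheory.Flat.EquationalCriterion

/-!
# Exactness of adic completion under a uniform Artin-Rees condition

* `map_injective`, `map_exact`: if `i x ∈ I ^ (n + c) N` implies `x ∈ I ^ n M` then the completed
  sequence is exact on the left.
* `mem_of_flat`: for a short exact sequence with flat cokernel, `i x ∈ J M` implies `x ∈ J K`.
-/

set_option autoImplicit false
universe u v w

namespace K76.AdicExact

variable {R : Type*} [CommRing R] (I : Ideal R) {M N Q : Type*} [AddCommGroup M] [Module R M]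
  [AddCommGroup N] [Module R N] [AddCommGroup Q] [Module R Q]
  (i : M →ₗ[R] N) (g : N →ₗ[R] Q)

theorem map_injective (c : ℕ)
    (h : ∀ (n : ℕ) (x : M), i x ∈ (I ^ (n + c) • ⊤ : Submodule R N) →
      x ∈ (I ^ n • ⊤ : Submodule R M)) :
    Function.Injective (AdicCompletion.map I i) := by
  rw [injective_iff_map_eq_zero]
  intro y
  obtain ⟨f, rfl⟩ := AdicCompletion.mk_surjective I M y
  intro hy
  apply AdicCompletion.mk_zero_of
  refine ⟨0, fun n _ => ⟨n + c, by omega, n, le_rfl, ?_⟩⟩
  apply h
  have h1 := congrArg (AdicCompletion.eval I N (n + c)) hy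
  rw [AdicCompletion.map_mk, map_zero] at h1
  exact (Submodule.Quotient.mk_eq_zero _).mp h1

theorem map_exact (hg : Function.Surjective g) (hig : Function.Exact i g) (c : ℕ)
    (h : ∀ (n : ℕ) (x : M), i x ∈ (I ^ (n + c) • ⊤ : Submodule R N) →
      x ∈ (I ^ n • ⊤ : Submodule R M)) :
    Function.Exact (AdicCompletion.map I i) (AdicCompletion.map I g) := by
  intro z
  constructor
  · obtain ⟨f, rfl⟩ := AdicCompletion.mk_surjective I N z
    intro hz
    have hx : ∀ n : ℕ, ∃ x : M, f n - i x ∈ (I ^ n • ⊤ : Submodule R N) := by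
      intro n
      have h1 := congrArg (AdicCompletion.eval I Q n) hz
      rw [AdicCompletion.map_mk, map_zero] at h1
      have h2 : g (f n) ∈ (I ^ n • ⊤ : Submodule R Q) := (Submodule.Quotient.mk_eq_zero _).mp h1
      have h3 : (I ^ n • ⊤ : Submodule R Q) = Submodule.map g (I ^ n • ⊤ : Submodule R N) := by
        rw [Submodule.map_smul'', Submodule.map_top, LinearMap.range_eq_top.mpr hg]
      rw [h3] at h2
      obtain ⟨u, hu, hu'⟩ := h2
      obtain ⟨x, hx⟩ := (hig (f n - u)).mp (by rw [map_sub, hu', sub_self])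
      refine ⟨x, ?_⟩
      rw [hx, sub_sub_cancel]
      exact hu
    choose x hx using hx
    have hf : ∀ {m n : ℕ}, m ≤ n → f m - f n ∈ (I ^ m • ⊤ : Submodule R N) := fun {m n} hmn =>
      SModEq.sub_mem.mp (f.2 hmn)
    have hcau : ∀ n, x (n + c) ≡ x (n + 1 + c) [SMOD (I ^ n • ⊤ : Submodule R M)] := by
      intro n
      rw [SModEq.sub_mem]
      apply h
      rw [map_sub]
      have e : i (x (n + c)) - i (x (n + 1 + c)) =
          (f (n + c) - f (n + 1 + c)) - (f (n + c) - i (x (n + c))) +
            (f (n + 1 + c) - i (x (n + 1 + c))) := by abel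
      rw [e]
      exact Submodule.add_mem _ (Submodule.sub_mem _ (hf (by omega)) (hx _))
        (Submodule.pow_smul_top_le I N (by omega : n + c ≤ n + 1 + c) (hx _))
    refine ⟨AdicCompletion.mk I M (AdicCompletion.AdicCauchySequence.mk I M
      (fun n => x (n + c)) hcau), ?_⟩
    rw [AdicCompletion.map_mk]
    apply AdicCompletion.ext
    intro n
    change Submodule.Quotient.mk (i (x (n + c))) = Submodule.Quotient.mk (f n)
    rw [Submodule.Quotient.eq]
    have e : i (x (n + c)) - f n = - (f (n + c) - i (x (n + c))) - (f n - f (n + c)) := by abel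
    rw [e]
    exact Submodule.sub_mem _ (Submodule.neg_mem _
      (Submodule.pow_smul_top_le I N (by omega : n ≤ n + c) (hx _))) (hf (by omega))
  · rintro ⟨y, rfl⟩
    rw [AdicCompletion.map_comp_apply]
    have : g ∘ₗ i = 0 := by
      ext x
      exact (hig (i x)).mpr ⟨x, rfl⟩
    rw [this, AdicCompletion.map_zero]
    rfl

theorem exists_sum {J : Ideal R} {z : N} (hz : z ∈ (J • ⊤ : Submodule R N)) :
    ∃ (n : ℕ) (a : Fin n → R) (m : Fin n → N), (∀ j, a j ∈ J) ∧ z = ∑ j, a j • m j := by
  refine Submodule.smul_induction_on hz ?_ ?_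
  · intro r hr m _
    exact ⟨1, fun _ => r, fun _ => m, fun _ => hr, by simp⟩
  · rintro _ _ ⟨n, a, m, ha, rfl⟩ ⟨n', a', m', ha', rfl⟩
    refine ⟨n + n', Fin.append a a', Fin.append m m', ?_, ?_⟩
    · intro j
      refine Fin.addCases (fun j => ?_) (fun j => ?_) j
      · rw [Fin.append_left]; exact ha j
      · rw [Fin.append_right]; exact ha' j
    · rw [Fin.sum_univ_add]
      simp only [Fin.append_left, Fin.append_right]

/-- For a short exact sequence with flat cokernel, `J M ∩ K = J K`. -/
theorem mem_of_flat [Module.Flat R Q] (hi : Function.Injective i) (hg : Function.Surjective g)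
    (hig : Function.Exact i g) (J : Ideal R) (x : M) (hx : i x ∈ (J • ⊤ : Submodule R N)) :
    x ∈ (J • ⊤ : Submodule R M) := by
  obtain ⟨n, a, m, ha, hsum⟩ := exists_sum hx
  have h0 : ∑ j, a j • g (m j) = 0 := by
    have h1 : g (i x) = 0 := (hig (i x)).mpr ⟨x, rfl⟩
    rw [hsum, map_sum] at h1
    simpa using h1
  obtain ⟨κ, b, y, hy, hb⟩ := Module.Flat.isTrivialRelation_of_sum_smul_eq_zero h0
  choose y' hy' using fun k => hg (y k)
  have hk : ∀ j, ∃ k : M, i k = m j - ∑ l, b j l • y' l := by
    intro j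
    apply (hig _).mp
    have h3 : g (m j) = ∑ l, b j l • y l := hy j
    rw [map_sub, h3, map_sum]
    simp [hy']
  choose k hk using hk
  have hfin : x = ∑ j, a j • k j := by
    apply hi
    rw [map_sum, hsum]
    have h2 : ∑ j, a j • ∑ l, b j l • y' l = 0 := by
      simp_rw [Finset.smul_sum, smul_smul]
      rw [Finset.sum_comm]
      apply Finset.sum_eq_zero
      intro l _
      rw [← Finset.sum_smul, hb l, zero_smul]
    simp_rw [map_smul, hk, smul_sub]
    rw [Finset.sum_sub_distrib, h2, sub_zero]
  rw [hfin]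
  exact Submodule.sum_mem _ fun m _ => Submodule.smul_mem_smul (ha m) trivial

end K76.AdicExact
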