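import Groth.Agent.Flat2D.SepClosedGeom
import Mathlib.AlgebraicGeometry.Geometrically.Connected
import Mathlib.AlgebraicGeometry.Morphisms.UniversallyOpen
import Mathlib.RingTheory.Spectrum.Prime.Topology
import Mathlib.RingTheory.Ideal.GoingDown

/-!
# Geometrically irreducible and connected algebras over a field, algebraically

`k` a field, `S` a `k`-algebra, `R` any `k`-algebra.
* `irr_of`, `irr_iff`: `k' ⊗[k] S` irreducible for all `k'` iff `Spec S → Spec k` is
  `GeometricallyIrreducible`; same for connectedness (`conn_of`).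
* `isOpenMap_comap`: `Spec (R ⊗[k] S) → Spec R` is open.
* `isIrreducible_preimage_comap`, `isConnected_preimage_comap`: its fibres are irreducible
  (connected).
-/

set_option autoImplicit false
universe u

open CategoryTheory AlgebraicGeometry CategoryTheory.Limits TensorProduct

namespace K76.Geom

variable {k : Type u} [Field k]

theorem homeo_comm (A B : Type u) [CommRing A] [CommRing B] [Algebra k A] [Algebra k B] :
    Nonempty (PrimeSpectrum (A ⊗[k] B) ≃ₜ PrimeSpectrum (B ⊗[k] A)) :=
  ⟨PrimeSpectrum.homeomorphOfRingEquiv (Algebra.TensorProduct.comm k A B).toRingEquiv⟩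

theorem irr_of {S : Type u} [CommRing S] [Algebra k S]
    (hS : ∀ (k' : Type u) [Field k'] [Algebra k k'], IrreducibleSpace (PrimeSpectrum (k' ⊗[k] S))) :
    GeometricallyIrreducible (Spec.map (CommRingCat.ofHom (algebraMap k S))) := by
  apply Groth.Agent.Fdesc.GeomIrred.geometricallyIrreducible_specMap
  intro L _ _
  obtain ⟨e⟩ := homeo_comm (k := k) S L
  have := hS L
  exact e.irreducibleSpace_iff.mpr this

theorem irr_to {S : Type u} [CommRing S] [Algebra k S]
    (h : GeometricallyIrreducible (Spec.map (CommRingCat.ofHom (algebraMap k S))))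
    (R : Type u) [CommRing R] [Algebra k R] [IrreducibleSpace (PrimeSpectrum R)] :
    IrreducibleSpace (PrimeSpectrum (R ⊗[k] S)) := by
  have h1 : IrreducibleSpace (Spec (CommRingCat.of R)) := ‹IrreducibleSpace (PrimeSpectrum R)›
  have h2 : IrreducibleSpace ↥(pullback (Spec.map (CommRingCat.ofHom (algebraMap k R)))
    (Spec.map (CommRingCat.ofHom (algebraMap k S)))) := inferInstance
  exact (pullbackSpecIso k R S).hom.homeomorph.irreducibleSpace_iff.1 h2

theorem conn_of {S : Type u} [CommRing S] [Algebra k S]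
    (hS : ∀ (k' : Type u) [Field k'] [Algebra k k'], ConnectedSpace (PrimeSpectrum (k' ⊗[k] S))) :
    GeometricallyConnected (Spec.map (CommRingCat.ofHom (algebraMap k S))) := by
  refine ⟨?_⟩
  rw [geometrically_iff_of_commRing_of_isClosedUnderIsomorphisms]
  intro L _ _
  obtain ⟨e⟩ := homeo_comm (k := k) L S
  have h1 := hS L
  have h2 : ConnectedSpace (PrimeSpectrum (S ⊗[k] L)) :=
    e.surjective.connectedSpace e.continuous
  have h3 : ConnectedSpace (Spec (CommRingCat.of (S ⊗[k] L))) := h2
  have e2 := (pullbackSpecIso k S L).inv.homeomorph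
  exact e2.surjective.connectedSpace e2.continuous

theorem conn_to {S : Type u} [CommRing S] [Algebra k S]
    (h : GeometricallyConnected (Spec.map (CommRingCat.ofHom (algebraMap k S))))
    (R : Type u) [CommRing R] [Algebra k R] [ConnectedSpace (PrimeSpectrum R)] :
    ConnectedSpace (PrimeSpectrum (R ⊗[k] S)) := by
  have h1 : ConnectedSpace (Spec (CommRingCat.of R)) := ‹ConnectedSpace (PrimeSpectrum R)›
  have h2 : ConnectedSpace ↥(pullback (Spec.map (CommRingCat.ofHom (algebraMap k R)))
    (Spec.map (CommRingCat.ofHom (algebraMap k S)))) := inferInstance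
  have e2 := (pullbackSpecIso k R S).hom.homeomorph
  exact e2.surjective.connectedSpace e2.continuous

theorem isPullback (R S : Type u) [CommRing R] [CommRing S] [Algebra k R] [Algebra k S] :
    IsPullback (Spec.map (CommRingCat.ofHom (algebraMap R (R ⊗[k] S))))
      (Spec.map (CommRingCat.ofHom (Algebra.TensorProduct.includeRight (R := k) (A := R)
        (B := S)).toRingHom))
      (Spec.map (CommRingCat.ofHom (algebraMap k R)))
      (Spec.map (CommRingCat.ofHom (algebraMap k S))) :=
  isPullback_SpecMap_of_isPushout _ _ _ _ (CommRingCat.isPushout_tensorProduct k R S)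

theorem geometricallyIrreducible_bc (R : Type u) {S : Type u} [CommRing R] [CommRing S]
    [Algebra k R] [Algebra k S]
    (h : GeometricallyIrreducible (Spec.map (CommRingCat.ofHom (algebraMap k S)))) :
    GeometricallyIrreducible (Spec.map (CommRingCat.ofHom (algebraMap R (R ⊗[k] S)))) :=
  MorphismProperty.of_isPullback (P := @GeometricallyIrreducible) (isPullback R S).flip h

theorem geometricallyConnected_bc (R : Type u) {S : Type u} [CommRing R] [CommRing S]
    [Algebra k R] [Algebra k S]
    (h : GeometricallyConnected (Spec.map (CommRingCat.ofHom (algebraMap k S)))) :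
    GeometricallyConnected (Spec.map (CommRingCat.ofHom (algebraMap R (R ⊗[k] S)))) :=
  MorphismProperty.of_isPullback (P := @GeometricallyConnected) (isPullback R S).flip h

theorem isOpenMap_comap (R S : Type u) [CommRing R] [CommRing S] [Algebra k R] [Algebra k S] :
    IsOpenMap (PrimeSpectrum.comap (algebraMap R (R ⊗[k] S))) := by
  have h : UniversallyOpen (Spec.map (CommRingCat.ofHom (algebraMap R (R ⊗[k] S)))) :=
    MorphismProperty.of_isPullback (P := @UniversallyOpen) (isPullback R S).flip inferInstance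
  exact (Spec.map (CommRingCat.ofHom (algebraMap R (R ⊗[k] S)))).isOpenMap

theorem isIrreducible_preimage_comap (R : Type u) {S : Type u} [CommRing R] [CommRing S]
    [Algebra k R] [Algebra k S]
    (h : GeometricallyIrreducible (Spec.map (CommRingCat.ofHom (algebraMap k S))))
    {s : Set (PrimeSpectrum R)} (hs : IsIrreducible s) :
    IsIrreducible (PrimeSpectrum.comap (algebraMap R (R ⊗[k] S)) ⁻¹' s) := by
  have := geometricallyIrreducible_bc R h
  exact (Spec.map (CommRingCat.ofHom (algebraMap R (R ⊗[k] S)))).isIrreducible_preimage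
    (isOpenMap_comap R S) hs

theorem isConnected_preimage_comap (R : Type u) {S : Type u} [CommRing R] [CommRing S]
    [Algebra k R] [Algebra k S]
    (h : GeometricallyConnected (Spec.map (CommRingCat.ofHom (algebraMap k S))))
    (p : PrimeSpectrum R) :
    _root_.IsConnected (PrimeSpectrum.comap (algebraMap R (R ⊗[k] S)) ⁻¹' {p}) := by
  have := geometricallyConnected_bc R h
  exact (Spec.map (CommRingCat.ofHom (algebraMap R (R ⊗[k] S)))).isConnected_preimage_singleton p

theorem geometricallyConnected_of_irr {X Y : Scheme.{u}} (f : X ⟶ Y)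
    [H : GeometricallyIrreducible f] : GeometricallyConnected f := by
  refine ⟨fun K _ x Z a b hZ ↦ ?_⟩
  have : IrreducibleSpace Z := H.geometrically_irreducibleSpace x a b hZ
  infer_instance

/-- Over a separably closed field, connected algebras are geometrically connected. -/
theorem conn_of_isSepClosed [IsSepClosed k] (S : Type u) [CommRing S] [Algebra k S]
    [ConnectedSpace (PrimeSpectrum S)] :
    GeometricallyConnected (Spec.map (CommRingCat.ofHom (algebraMap k S))) := by
  apply conn_of
  intro L _ _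
  have h1 : GeometricallyIrreducible (Spec.map (CommRingCat.ofHom (algebraMap k L))) :=
    Groth.Agent.Flat2D.SepClosedGeom.geometricallyIrreducible_specMap_of_isSepClosed k L
  have h2 := geometricallyConnected_of_irr (Spec.map (CommRingCat.ofHom (algebraMap k L)))
  have h3 : ConnectedSpace (PrimeSpectrum (S ⊗[k] L)) := conn_to h2 S
  obtain ⟨e⟩ := homeo_comm (k := k) S L
  exact e.surjective.connectedSpace e.continuous

/-- Transitivity of geometric irreducibility. -/
theorem irr_trans {K S : Type u} [Field K] [Algebra k K] [CommRing S] [Algebra K S] [Algebra k S]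
    [IsScalarTower k K S]
    (h1 : GeometricallyIrreducible (Spec.map (CommRingCat.ofHom (algebraMap k K))))
    (h2 : GeometricallyIrreducible (Spec.map (CommRingCat.ofHom (algebraMap K S)))) :
    GeometricallyIrreducible (Spec.map (CommRingCat.ofHom (algebraMap k S))) := by
  have h3 : GeometricallyIrreducible
      (Spec.map (CommRingCat.ofHom (algebraMap K S)) ≫
        Spec.map (CommRingCat.ofHom (algebraMap k K))) := GeometricallyIrreducible.comp _ _
  rwa [← Spec.map_comp, ← CommRingCat.ofHom_comp, ← IsScalarTower.algebraMap_eq] at h3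

/-- Minimal primes of `R ⊗[k] S` for `S` geometrically irreducible. -/
theorem bijOn_minimalPrimes (R : Type u) {S : Type u} [CommRing R] [CommRing S]
    [Algebra k R] [Algebra k S]
    (h : GeometricallyIrreducible (Spec.map (CommRingCat.ofHom (algebraMap k S)))) :
    Set.BijOn (Ideal.comap (algebraMap R (R ⊗[k] S))) (minimalPrimes (R ⊗[k] S))
      (minimalPrimes R) := by
  -- the generic point of the fibre over `p`
  have key : ∀ p : PrimeSpectrum R, ∃ q : PrimeSpectrum (R ⊗[k] S),
      PrimeSpectrum.comap (algebraMap R (R ⊗[k] S)) q = p ∧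
      ∀ q' : PrimeSpectrum (R ⊗[k] S), PrimeSpectrum.comap (algebraMap R (R ⊗[k] S)) q' = p →
        q ≤ q' := by
    intro p
    have h1 := isIrreducible_preimage_comap R h (s := {p}) isIrreducible_singleton
    obtain ⟨q, hq⟩ := QuasiSober.sober h1.closure isClosed_closure
    have hle : ∀ q' : PrimeSpectrum (R ⊗[k] S),
        PrimeSpectrum.comap (algebraMap R (R ⊗[k] S)) q' = p → q ≤ q' := by
      intro q' hq'
      rw [PrimeSpectrum.le_iff_specializes, specializes_iff_mem_closure, hq.def]
      exact subset_closure hq'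
    refine ⟨q, ?_, hle⟩
    obtain ⟨q', hq'⟩ := h1.nonempty
    apply le_antisymm
    · rw [← show PrimeSpectrum.comap (algebraMap R (R ⊗[k] S)) q' = p from hq']
      exact Ideal.comap_mono (hle q' hq')
    · rw [PrimeSpectrum.le_iff_specializes, specializes_iff_mem_closure]
      have h2 : PrimeSpectrum.comap (algebraMap R (R ⊗[k] S)) ''
          closure (PrimeSpectrum.comap (algebraMap R (R ⊗[k] S)) ⁻¹' {p}) ⊆
          closure (PrimeSpectrum.comap (algebraMap R (R ⊗[k] S)) ''
            (PrimeSpectrum.comap (algebraMap R (R ⊗[k] S)) ⁻¹' {p})) :=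
        image_closure_subset_closure_image (PrimeSpectrum.continuous_comap _)
      have h3 : q ∈ closure (PrimeSpectrum.comap (algebraMap R (R ⊗[k] S)) ⁻¹' {p}) := by
        rw [← hq.def]
        exact subset_closure rfl
      exact closure_mono (Set.image_preimage_subset _ _) (h2 ⟨q, h3, rfl⟩)
  refine ⟨?_, ?_, ?_⟩
  · intro P hP
    have hPp : P.IsPrime := hP.1.1
    refine ⟨⟨Ideal.comap_isPrime _ _, bot_le⟩, ?_⟩
    rintro p' ⟨hp', _⟩ hle
    have hlo : P.LiesOver (Ideal.comap (algebraMap R (R ⊗[k] S)) P) := ⟨rfl⟩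
    have hpc : (Ideal.comap (algebraMap R (R ⊗[k] S)) P).IsPrime := Ideal.comap_isPrime _ _
    obtain ⟨P', hP'le, hP', hlo'⟩ := Ideal.exists_ideal_le_liesOver_of_le (S := R ⊗[k] S)
      (p := p') (q := Ideal.comap (algebraMap R (R ⊗[k] S)) P) P hle
    have h7 : P = P' := le_antisymm (hP.2 ⟨hP', bot_le⟩ hP'le) hP'le
    rw [h7, hlo'.over]
  · intro P hP P' hP' heq
    have hPp : P.IsPrime := hP.1.1
    have hPp' : P'.IsPrime := hP'.1.1
    obtain ⟨q, hq, hmin⟩ := key (PrimeSpectrum.comap (algebraMap R (R ⊗[k] S)) ⟨P, hPp⟩)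
    have e1 : q.asIdeal = P :=
      le_antisymm (hmin ⟨P, hPp⟩ rfl) (hP.2 ⟨q.isPrime, bot_le⟩ (hmin ⟨P, hPp⟩ rfl))
    have h5 : PrimeSpectrum.comap (algebraMap R (R ⊗[k] S)) ⟨P', hPp'⟩ =
        PrimeSpectrum.comap (algebraMap R (R ⊗[k] S)) ⟨P, hPp⟩ := PrimeSpectrum.ext heq.symm
    have e2 : q.asIdeal = P' :=
      le_antisymm (hmin ⟨P', hPp'⟩ h5) (hP'.2 ⟨q.isPrime, bot_le⟩ (hmin ⟨P', hPp'⟩ h5))
    rw [← e1, ← e2]
  · intro p hp
    have hpp : p.IsPrime := hp.1.1
    obtain ⟨q, hq, hmin⟩ := key ⟨p, hpp⟩
    refine ⟨q.asIdeal, ⟨⟨q.isPrime, bot_le⟩, ?_⟩, congrArg PrimeSpectrum.asIdeal hq⟩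
    rintro Q ⟨hQ, _⟩ hle
    refine hmin ⟨Q, hQ⟩ ?_
    apply PrimeSpectrum.ext
    have h6 : Ideal.comap (algebraMap R (R ⊗[k] S)) Q ≤ p := by
      have := Ideal.comap_mono (f := algebraMap R (R ⊗[k] S)) hle
      rwa [show Ideal.comap (algebraMap R (R ⊗[k] S)) q.asIdeal = p from
        congrArg PrimeSpectrum.asIdeal hq] at this
    exact le_antisymm h6 (hp.2 ⟨Ideal.comap_isPrime _ _, bot_le⟩ h6)

end K76.Geom
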