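import Mathlib.RingTheory.Spectrum.Prime.Topology
import Groth.Agent.Pi1A.CompSpectral

/-!
# Connected components of the spectrum of a ring and idempotents

* `mem_span_of_zeroLocus_le`: an idempotent vanishing on the zero locus of a set of idempotents
  lies in the ideal they generate.
* `connectedComponent_eq`: the connected component of `p` is the zero locus of the idempotents
  in `p`.
-/

set_option autoImplicit false
universe u

namespace K76.Idem

variable {R : Type u} [CommRing R]

theorem mem_span_of_zeroLocus_subset {E : Set R} {e : R} (he : IsIdempotentElem e)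
    (h : PrimeSpectrum.zeroLocus E ⊆ PrimeSpectrum.zeroLocus {e}) : e ∈ Ideal.span E := by
  have h1 : e ∈ (Ideal.span E).radical := by
    rw [← PrimeSpectrum.vanishingIdeal_zeroLocus_eq_radical, PrimeSpectrum.zeroLocus_span,
      PrimeSpectrum.mem_vanishingIdeal]
    intro x hx
    exact h hx rfl
  obtain ⟨n, hn⟩ := h1
  have h2 : e ^ (n + 1) = e := he.pow_succ_eq n
  rw [← h2, pow_succ]
  exact Ideal.mul_mem_right _ _ hn

theorem isClopen_zeroLocus {e : R} (he : IsIdempotentElem e) :
    IsClopen (PrimeSpectrum.zeroLocus {e}) := by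
  refine ⟨PrimeSpectrum.isClosed_zeroLocus _, ?_⟩
  have h : PrimeSpectrum.zeroLocus {e} = (PrimeSpectrum.basicOpen (1 - e) : Set (PrimeSpectrum R)) := by
    ext x
    simp only [PrimeSpectrum.mem_zeroLocus, Set.singleton_subset_iff, SetLike.mem_coe,
      PrimeSpectrum.mem_basicOpen]
    constructor
    · intro h1 h2
      have h3 := x.asIdeal.add_mem h1 h2
      rw [add_sub_cancel] at h3
      exact (Ideal.ne_top_iff_one _).mp x.isPrime.ne_top h3
    · intro h1
      have h2 : e * (1 - e) ∈ x.asIdeal := by
        rw [mul_sub, mul_one, he.eq, sub_self]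
        exact zero_mem _
      exact (x.isPrime.mem_or_mem h2).resolve_right h1
  rw [h]
  exact (PrimeSpectrum.basicOpen _).isOpen

theorem exists_of_isClopen {s : Set (PrimeSpectrum R)} (hs : IsClopen s) :
    ∃ e : R, IsIdempotentElem e ∧ s = PrimeSpectrum.zeroLocus {e} := by
  obtain ⟨e, he, h⟩ := PrimeSpectrum.isClopen_iff.mp hs.compl
  refine ⟨e, he, ?_⟩
  rw [← compl_compl s, h, PrimeSpectrum.basicOpen_eq_zeroLocus_compl, compl_compl]

theorem connectedComponent_eq (p : PrimeSpectrum R) :
    connectedComponent p =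
      PrimeSpectrum.zeroLocus {e : R | IsIdempotentElem e ∧ e ∈ p.asIdeal} := by
  rw [Groth.Agent.Pi1A.CompSpectral.connectedComponent_eq_iInter_isClopen]
  apply Set.Subset.antisymm
  · intro x hx e he
    have h1 := Set.mem_iInter.mp hx ⟨PrimeSpectrum.zeroLocus {e}, isClopen_zeroLocus he.1, by
      simpa using he.2⟩
    exact h1 rfl
  · intro x hx
    rw [Set.mem_iInter]
    rintro ⟨s, hs, hps⟩
    obtain ⟨e, he, rfl⟩ := exists_of_isClopen hs
    change x ∈ PrimeSpectrum.zeroLocus {e}
    rw [PrimeSpectrum.mem_zeroLocus, Set.singleton_subset_iff]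
    exact hx ⟨he, hps rfl⟩

end K76.Idem
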