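import Mathlib.RingTheory.Kaehler.Basic
import Mathlib.RingTheory.LocalRing.Quotient
import Mathlib.RingTheory.RegularLocalRing.Defs
import Mathlib.LinearAlgebra.TensorProduct.Tower

/-!
# The cotangent space at a rational point

For a local `k`-algebra `B` with residue field `k`, the fibre `κ ⊗ Ω_{B/k}` is the cotangent
space `m / m²`.
-/

set_option autoImplicit false
universe u v

namespace K76.KaehlerPt

open IsLocalRing KaehlerDifferential TensorProduct

variable {k : Type v} {B : Type u} [Field k] [CommRing B] [Algebra k B] [IsLocalRing B]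

/-- The value of a function at the rational point. -/
theorem exists_sub_mem (hres : Function.Surjective (algebraMap k (ResidueField B))) (b : B) :
    ∃ c : k, b - algebraMap k B c ∈ maximalIdeal B := by
  obtain ⟨c, hc⟩ := hres (residue B b)
  refine ⟨c, ?_⟩
  rw [← residue_eq_zero_iff, map_sub, ← hc, sub_eq_zero]
  rfl

theorem algebraMap_mem_iff (c : k) : algebraMap k B c ∈ maximalIdeal B ↔ c = 0 := by
  constructor
  · intro h
    by_contra hc
    exact (mem_maximalIdeal _).mp h ((IsUnit.mk0 c hc).map _)
  · rintro rfl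
    rw [map_zero]
    exact Ideal.zero_mem _

/-- The derivation `b ↦ b - b(x)` with values in the cotangent space. -/
noncomputable def delta (hres : Function.Surjective (algebraMap k (ResidueField B))) :
    Derivation k B (CotangentSpace B) := by
  let σ : B → k := fun b ↦ (exists_sub_mem hres b).choose
  have hσ : ∀ b, b - algebraMap k B (σ b) ∈ maximalIdeal B := fun b ↦
    (exists_sub_mem hres b).choose_spec
  have huniq : ∀ b c, b - algebraMap k B c ∈ maximalIdeal B → σ b = c := by
    intro b c hc
    have h1 := Ideal.sub_mem _ hc (hσ b)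
    rw [sub_sub_sub_cancel_left, ← map_sub, algebraMap_mem_iff, sub_eq_zero] at h1
    exact h1
  have hadd : ∀ a b, σ (a + b) = σ a + σ b := fun a b ↦ huniq _ _ (by
    have := Ideal.add_mem _ (hσ a) (hσ b)
    rw [map_add]
    convert this using 1
    ring)
  have hmul : ∀ a b, σ (a * b) = σ a * σ b := fun a b ↦ huniq _ _ (by
    have := Ideal.add_mem _ (Ideal.mul_mem_right b _ (hσ a))
      (Ideal.mul_mem_left _ (algebraMap k B (σ a)) (hσ b))
    rw [map_mul]
    convert this using 1
    ring)
  have hk : ∀ c, σ (algebraMap k B c) = c := fun c ↦ huniq _ _ (by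
    rw [sub_self]; exact Ideal.zero_mem _)
  refine Derivation.mk'
    { toFun := fun b ↦ (maximalIdeal B).toCotangent ⟨b - algebraMap k B (σ b), hσ b⟩
      map_add' := fun a b ↦ ?_
      map_smul' := fun c b ↦ ?_ } fun a b ↦ ?_
  · rw [← map_add]
    congr 1
    ext
    change a + b - algebraMap k B (σ (a + b)) =
      (a - algebraMap k B (σ a)) + (b - algebraMap k B (σ b))
    rw [hadd, map_add]
    ring
  · have h1 : (RingHom.id k) c • (maximalIdeal B).toCotangent ⟨b - algebraMap k B (σ b), hσ b⟩ =
        (maximalIdeal B).toCotangent ((algebraMap k B c) • ⟨b - algebraMap k B (σ b), hσ b⟩) := by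
      rw [map_smul, algebraMap_smul]
      rfl
    rw [h1]
    congr 1
    ext
    change c • b - algebraMap k B (σ (c • b)) = algebraMap k B c * (b - algebraMap k B (σ b))
    rw [Algebra.smul_def, hmul, hk, map_mul]
    ring
  · change (maximalIdeal B).toCotangent ⟨a * b - algebraMap k B (σ (a * b)), _⟩ =
      a • (maximalIdeal B).toCotangent ⟨b - algebraMap k B (σ b), _⟩ +
      b • (maximalIdeal B).toCotangent ⟨a - algebraMap k B (σ a), _⟩
    rw [← map_smul, ← map_smul, ← map_add, Ideal.toCotangent_eq]
    change a * b - algebraMap k B (σ (a * b)) - (a * (b - algebraMap k B (σ b)) +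
      b * (a - algebraMap k B (σ a))) ∈ _
    have h1 : a * b - algebraMap k B (σ (a * b)) - (a * (b - algebraMap k B (σ b)) +
      b * (a - algebraMap k B (σ a))) = -((a - algebraMap k B (σ a)) *
        (b - algebraMap k B (σ b))) := by
      rw [hmul, map_mul]
      ring
    rw [h1, pow_two]
    exact neg_mem (Ideal.mul_mem_mul (hσ a) (hσ b))

theorem delta_of_mem (hres : Function.Surjective (algebraMap k (ResidueField B))) (x : B)
    (hx : x ∈ maximalIdeal B) : delta hres x = (maximalIdeal B).toCotangent ⟨x, hx⟩ := by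
  change (maximalIdeal B).toCotangent ⟨x - algebraMap k B (exists_sub_mem hres x).choose,
    (exists_sub_mem hres x).choose_spec⟩ = _
  congr 1
  ext
  change x - algebraMap k B (exists_sub_mem hres x).choose = x
  have h1 : algebraMap k B (exists_sub_mem hres x).choose ∈ maximalIdeal B := by
    have := Ideal.sub_mem _ hx (exists_sub_mem hres x).choose_spec
    rwa [sub_sub_cancel] at this
  rw [algebraMap_mem_iff] at h1
  rw [h1, map_zero, sub_zero]

theorem tmul_smul_eq_zero {M : Type*} [AddCommGroup M] [Module B M] (c : B)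
    (hc : c ∈ maximalIdeal B) (m : M) : (1 : ResidueField B) ⊗ₜ[B] (c • m) = 0 := by
  have h3 : c • (1 : ResidueField B) = 0 := by
    rw [Algebra.smul_def, mul_one]
    exact (residue_eq_zero_iff _).mpr hc
  rw [← TensorProduct.smul_tmul, h3, TensorProduct.zero_tmul]

/-- Every element of the fibre of `Ω` is the class of `dx`, `x` in the maximal ideal. -/
theorem exists_eq_tmul (hres : Function.Surjective (algebraMap k (ResidueField B)))
    (z : ResidueField B ⊗[B] Ω[B⁄k]) :
    ∃ x ∈ maximalIdeal B, z = 1 ⊗ₜ[B] (D k B x) := by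
  have hsmul : ∀ (c : B) (x : B), x ∈ maximalIdeal B → ∃ y ∈ maximalIdeal B,
      (1 : ResidueField B) ⊗ₜ[B] (c • D k B x) = 1 ⊗ₜ[B] (D k B y) := by
    intro c x hx
    obtain ⟨a, ha⟩ := exists_sub_mem (k := k) hres c
    refine ⟨a • x, ?_, ?_⟩
    · rw [Algebra.smul_def]
      exact Ideal.mul_mem_left _ _ hx
    · have h1 : c • D k B x = (c - algebraMap k B a) • D k B x + D k B (a • x) := by
        rw [Derivation.map_smul, sub_smul, algebraMap_smul, sub_add_cancel]
      rw [h1, TensorProduct.tmul_add, tmul_smul_eq_zero _ ha, zero_add]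
  have hadd : ∀ x ∈ maximalIdeal B, ∀ y ∈ maximalIdeal B, ∃ w ∈ maximalIdeal B,
      (1 : ResidueField B) ⊗ₜ[B] (D k B x) + 1 ⊗ₜ[B] (D k B y) = 1 ⊗ₜ[B] (D k B w) := by
    intro x hx y hy
    exact ⟨x + y, Ideal.add_mem _ hx hy, by rw [map_add, TensorProduct.tmul_add]⟩
  obtain ⟨ω, rfl⟩ := TensorProduct.mk_surjective B Ω[B⁄k] (ResidueField B) residue_surjective z
  rw [TensorProduct.mk_apply]
  have hω : ω ∈ Submodule.span B (Set.range (D k B)) := by
    rw [span_range_derivation]
    trivial
  induction hω using Submodule.span_induction with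
  | mem x hx =>
    obtain ⟨b, rfl⟩ := hx
    obtain ⟨a, ha⟩ := exists_sub_mem (k := k) hres b
    refine ⟨_, ha, ?_⟩
    rw [map_sub, Derivation.map_algebraMap, sub_zero]
  | zero => exact ⟨0, Ideal.zero_mem _, by rw [map_zero]⟩
  | add x y _ _ hx hy =>
    obtain ⟨x', hx', h1⟩ := hx
    obtain ⟨y', hy', h2⟩ := hy
    obtain ⟨w, hw, h3⟩ := hadd x' hx' y' hy'
    exact ⟨w, hw, by rw [TensorProduct.tmul_add, h1, h2, h3]⟩
  | smul a x _ hx =>
    obtain ⟨x', hx', h1⟩ := hx
    obtain ⟨y, hy, h2⟩ := hsmul a x' hx'
    refine ⟨y, hy, ?_⟩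
    rw [← h2, TensorProduct.tmul_smul, TensorProduct.tmul_smul, h1]

/-- The cotangent space at a rational point is the fibre of `Ω`. -/
noncomputable def equiv (hres : Function.Surjective (algebraMap k (ResidueField B))) :
    (ResidueField B ⊗[B] Ω[B⁄k]) ≃ₗ[ResidueField B] CotangentSpace B :=
  LinearEquiv.ofBijective ((delta hres).liftKaehlerDifferential.liftBaseChange (ResidueField B)) (by
    have key : ∀ x, (delta hres).liftKaehlerDifferential.liftBaseChange (ResidueField B)
        (1 ⊗ₜ[B] (D k B x)) = delta hres x := by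
      intro x
      rw [LinearMap.liftBaseChange_tmul, one_smul, Derivation.liftKaehlerDifferential_comp_D]
    constructor
    · rw [injective_iff_map_eq_zero]
      intro z hz
      obtain ⟨x, hx, rfl⟩ := exists_eq_tmul hres z
      rw [key, delta_of_mem hres x hx, Ideal.toCotangent_eq_zero, pow_two] at hz
      refine Submodule.mul_induction_on (C := fun r ↦ (1 : ResidueField B) ⊗ₜ[B] (D k B r) = 0) hz
        (fun m hm n hn ↦ ?_) (fun x y hx hy ↦ ?_)
      · rw [Derivation.leibniz, TensorProduct.tmul_add, tmul_smul_eq_zero m hm,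
          tmul_smul_eq_zero n hn, add_zero]
      · rw [map_add, TensorProduct.tmul_add, hx, hy, add_zero]
    · intro y
      obtain ⟨⟨x, hx⟩, rfl⟩ := (maximalIdeal B).toCotangent_surjective y
      exact ⟨_, (key x).trans (delta_of_mem hres x hx)⟩)

end K76.KaehlerPt
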