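import Mathlib.RingTheory.LocalRing.ResidueField.Ideal
import Mathlib.RingTheory.Spectrum.Prime.Topology
import Mathlib.FieldTheory.PurelyInseparable.Basic
import Mathlib.RingTheory.TensorProduct.Basic
import Mathlib.RingTheory.Flat.Basic
import Mathlib.RingTheory.Flat.Domain

/-!
# Universally injective ring maps, algebraically

`IsUInj R S`: two homomorphisms from `S` to a field which agree on `R` are equal.
* `isUInj_of`: injective on spectra and purely inseparable residue extensions imply `IsUInj`.
* `IsUInj.baseChange`, `IsUInj.injective`, `IsUInj.exists_pow`.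
-/

set_option autoImplicit false
universe u

open TensorProduct

namespace K76.UInj

/-- Two homomorphisms from `S` to a field which agree on `R` are equal. -/
def IsUInj (R S : Type u) [CommRing R] [CommRing S] [Algebra R S] : Prop :=
  ∀ (K : Type u) [Field K] (f g : S →+* K), f.comp (algebraMap R S) = g.comp (algebraMap R S) →
    f = g

variable {R S : Type u} [CommRing R] [CommRing S] [Algebra R S]

theorem le_comap {K : Type u} [Field K] (f : S →+* K) (q : Ideal S) [q.IsPrime]
    (h : RingHom.ker f = q) : q.primeCompl ≤ (IsUnit.submonoid K).comap f := fun x hx => by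
  refine IsUnit.mk0 (f x) fun h0 => hx ?_
  rw [← h]
  exact h0

/-- The factorization of a map to a field through the residue field of its kernel. -/
noncomputable def resMap {K : Type u} [Field K] (f : S →+* K) (q : Ideal S) [q.IsPrime]
    (h : RingHom.ker f = q) : q.ResidueField →+* K :=
  Ideal.ResidueField.lift q f h.ge (le_comap f q h)

theorem resMap_comp {K : Type u} [Field K] (f : S →+* K) (q : Ideal S) [q.IsPrime]
    (h : RingHom.ker f = q) : (resMap f q h).comp (algebraMap S q.ResidueField) = f := by
  ext x
  exact Ideal.ResidueField.lift_algebraMap q f h.ge (le_comap f q h) x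

theorem isUInj_of (hinj : Function.Injective (PrimeSpectrum.comap (algebraMap R S)))
    (hpi : ∀ (q : Ideal S) [q.IsPrime] (x : q.ResidueField), ∃ n : ℕ,
      x ^ (ringExpChar (q.comap (algebraMap R S)).ResidueField) ^ n ∈
        Set.range (Ideal.ResidueField.map (q.comap (algebraMap R S)) q (algebraMap R S) rfl)) :
    IsUInj R S := by
  intro K _ f g hfg
  have hp : (RingHom.ker f).IsPrime := RingHom.ker_isPrime f
  have hp' : (RingHom.ker g).IsPrime := RingHom.ker_isPrime g
  have hker : RingHom.ker f = RingHom.ker g := by
    have h1 : PrimeSpectrum.comap (algebraMap R S) ⟨RingHom.ker f, hp⟩ =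
        PrimeSpectrum.comap (algebraMap R S) ⟨RingHom.ker g, hp'⟩ := by
      ext x
      change f (algebraMap R S x) = 0 ↔ g (algebraMap R S x) = 0
      rw [← RingHom.comp_apply, hfg, RingHom.comp_apply]
    exact congrArg PrimeSpectrum.asIdeal (hinj h1)
  let q := RingHom.ker g
  let p := q.comap (algebraMap R S)
  let F := resMap f q hker
  let G := resMap g q rfl
  let i := Ideal.ResidueField.map p q (algebraMap R S) rfl
  let _ : Algebra p.ResidueField q.ResidueField := i.toAlgebra
  have hpi' : IsPurelyInseparable p.ResidueField q.ResidueField := by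
    rw [isPurelyInseparable_iff_pow_mem _ (ringExpChar p.ResidueField)]
    intro x
    obtain ⟨n, hn⟩ := hpi q x
    exact ⟨n, hn⟩
  have hFG : F.comp (algebraMap p.ResidueField q.ResidueField) =
      G.comp (algebraMap p.ResidueField q.ResidueField) := by
    apply Ideal.ResidueField.ringHom_ext
    ext x
    change F (i (algebraMap R p.ResidueField x)) = G (i (algebraMap R p.ResidueField x))
    rw [Ideal.ResidueField.map_algebraMap]
    have h1 := RingHom.congr_fun (resMap_comp f q hker) (algebraMap R S x)
    have h2 := RingHom.congr_fun (resMap_comp g q rfl) (algebraMap R S x)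
    rw [RingHom.comp_apply] at h1 h2
    rw [h1, h2]
    exact RingHom.congr_fun hfg x
  have hFG' : F = G := IsPurelyInseparable.injective_comp_algebraMap
    p.ResidueField q.ResidueField K hFG
  rw [← resMap_comp f q hker, ← resMap_comp g q rfl]
  change F.comp _ = G.comp _
  rw [hFG']

theorem IsUInj.baseChange (h : IsUInj R S) (R' : Type u) [CommRing R'] [Algebra R R'] :
    IsUInj R' (R' ⊗[R] S) := by
  intro K _ f g hfg
  have h1 : f.comp (Algebra.TensorProduct.includeRight : S →ₐ[R] R' ⊗[R] S).toRingHom =
      g.comp (Algebra.TensorProduct.includeRight : S →ₐ[R] R' ⊗[R] S).toRingHom := by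
    apply h
    ext x
    have h2 : (1 : R') ⊗ₜ[R] (algebraMap R S x) = algebraMap R' (R' ⊗[R] S) (algebraMap R R' x) := by
      rw [Algebra.algebraMap_eq_smul_one x, TensorProduct.tmul_smul,
        ← Algebra.TensorProduct.one_def, ← IsScalarTower.algebraMap_apply,
        Algebra.algebraMap_eq_smul_one x]
    change f ((1 : R') ⊗ₜ[R] (algebraMap R S x)) = g ((1 : R') ⊗ₜ[R] (algebraMap R S x))
    rw [h2]
    exact RingHom.congr_fun hfg _
  apply RingHom.ext
  intro x
  induction x with
  | zero => simp
  | tmul a s =>
    have h3 : a ⊗ₜ[R] s = algebraMap R' (R' ⊗[R] S) a * ((1 : R') ⊗ₜ[R] s) := by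
      rw [Algebra.TensorProduct.algebraMap_apply, Algebra.TensorProduct.tmul_mul_tmul]
      simp
    rw [h3, map_mul, map_mul]
    congr 1
    · exact RingHom.congr_fun hfg a
    · exact RingHom.congr_fun h1 s
  | add x y hx hy => rw [map_add, map_add, hx, hy]

theorem nontrivial_tensor (F E E' : Type u) [Field F] [Field E] [Field E'] [Algebra F E]
    [Algebra F E'] : Nontrivial (E ⊗[F] E') :=
  (Algebra.TensorProduct.includeLeft_injective (S := F) (algebraMap F E').injective).nontrivial

theorem IsUInj.injective (h : IsUInj R S) :
    Function.Injective (PrimeSpectrum.comap (algebraMap R S)) := by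
  intro q q' hqq
  let p := PrimeSpectrum.comap (algebraMap R S) q
  have e : p.asIdeal = q.asIdeal.comap (algebraMap R S) := rfl
  have e' : p.asIdeal = q'.asIdeal.comap (algebraMap R S) := by
    rw [show p = PrimeSpectrum.comap (algebraMap R S) q' from hqq]
    rfl
  let _ : Algebra p.asIdeal.ResidueField q.asIdeal.ResidueField :=
    (Ideal.ResidueField.map p.asIdeal q.asIdeal (algebraMap R S) e).toAlgebra
  let _ : Algebra p.asIdeal.ResidueField q'.asIdeal.ResidueField :=
    (Ideal.ResidueField.map p.asIdeal q'.asIdeal (algebraMap R S) e').toAlgebra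
  let T := q.asIdeal.ResidueField ⊗[p.asIdeal.ResidueField] q'.asIdeal.ResidueField
  have : Nontrivial T := nontrivial_tensor _ _ _
  obtain ⟨m, hm⟩ := Ideal.exists_maximal T
  let K := T ⧸ m
  let _ : Field K := Ideal.Quotient.field m
  let a : q.asIdeal.ResidueField →+* K := (Ideal.Quotient.mk m).comp
    (Algebra.TensorProduct.includeLeft (R := p.asIdeal.ResidueField)
      (S := p.asIdeal.ResidueField) (A := q.asIdeal.ResidueField)
      (B := q'.asIdeal.ResidueField)).toRingHom
  let b : q'.asIdeal.ResidueField →+* K := (Ideal.Quotient.mk m).comp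
    (Algebra.TensorProduct.includeRight (R := p.asIdeal.ResidueField)
      (A := q.asIdeal.ResidueField) (B := q'.asIdeal.ResidueField)).toRingHom
  have hab : a.comp (algebraMap p.asIdeal.ResidueField _) =
      b.comp (algebraMap p.asIdeal.ResidueField _) := by
    apply RingHom.ext
    intro x
    change Ideal.Quotient.mk m ((algebraMap p.asIdeal.ResidueField _ x) ⊗ₜ 1) =
      Ideal.Quotient.mk m (1 ⊗ₜ (algebraMap p.asIdeal.ResidueField _ x))
    rw [Algebra.algebraMap_eq_smul_one, Algebra.algebraMap_eq_smul_one, TensorProduct.smul_tmul]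
  have hfg := h K (a.comp (algebraMap S _)) (b.comp (algebraMap S _)) (by
    ext x
    have h1 := RingHom.congr_fun hab (algebraMap R p.asIdeal.ResidueField x)
    change a (Ideal.ResidueField.map p.asIdeal q.asIdeal (algebraMap R S) e _) =
      b (Ideal.ResidueField.map p.asIdeal q'.asIdeal (algebraMap R S) e' _) at h1
    rw [Ideal.ResidueField.map_algebraMap, Ideal.ResidueField.map_algebraMap] at h1
    exact h1)
  ext x
  have h2 := RingHom.congr_fun hfg x
  rw [← Ideal.algebraMap_residueField_eq_zero (I := q.asIdeal),
    ← Ideal.algebraMap_residueField_eq_zero (I := q'.asIdeal), ← map_eq_zero_iff a a.injective,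
    ← map_eq_zero_iff b b.injective]
  change a (algebraMap S _ x) = b (algebraMap S _ x) at h2
  rw [h2]

theorem IsUInj.exists_pow (h : IsUInj R S) (q : Ideal S) [q.IsPrime] (x : q.ResidueField) : ∃ n : ℕ,
    x ^ (ringExpChar (q.comap (algebraMap R S)).ResidueField) ^ n ∈
      Set.range (Ideal.ResidueField.map (q.comap (algebraMap R S)) q (algebraMap R S) rfl) := by
  let p := q.comap (algebraMap R S)
  let i := Ideal.ResidueField.map p q (algebraMap R S) rfl
  let _ : Algebra p.ResidueField q.ResidueField := i.toAlgebra
  have hpi : IsPurelyInseparable p.ResidueField q.ResidueField := by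
    rw [isPurelyInseparable_iff_subsingleton_emb, subsingleton_iff]
    intro σ τ
    apply AlgHom.coe_ringHom_injective
    apply Ideal.ResidueField.ringHom_ext
    apply h
    ext y
    change σ (algebraMap S _ (algebraMap R S y)) = τ (algebraMap S _ (algebraMap R S y))
    have h1 : algebraMap S q.ResidueField (algebraMap R S y) =
        algebraMap p.ResidueField q.ResidueField (algebraMap R _ y) :=
      (Ideal.ResidueField.map_algebraMap p q (algebraMap R S) rfl y).symm
    rw [h1, σ.commutes, τ.commutes]
  obtain ⟨n, hn⟩ := (isPurelyInseparable_iff_pow_mem _ (ringExpChar p.ResidueField)).mp hpi x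
  exact ⟨n, hn⟩

end K76.UInj
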